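import Cfsg.Agent.H0.TC
set_option maxRecDepth 100000
namespace H0.TCON2
open H0
noncomputable def tS : Tr := (.leaf (nat_lit 0x3fee492ae9f4e6ffa89f4cd88343fefb7c34544cfffae61cce462e7fe8a6539594b8ffaed968a5d2dffea1709d148a1ff9cdc4a071283fea3392893a9fffa24b68c4da27fe8b2d2216888ffa65149a2d21ffe71222196671ff90ce8b1371c3feb13990ce46fff8b0b85742967fe5b2c1685858ff858846e2110bfe44208588641ff8b4002c158affe000b0000000))
noncomputable def tJ : Tr := (.leaf (nat_lit 0x205183240921031003094104039440a20232001a022030a0240a01033008011301b01130092011020394301b201408002320008024090103100309440a20232001a0230070110060666))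
noncomputable def tQ : Tr := (.leaf (nat_lit 0x0))
noncomputable def tR : TC.WTr := (.node (.node (.node (.node (.node (.leaf [0] 0 0 false) (.leaf [2] 2 0 false)) (.node (.leaf [4, 1, 4] 7 0 false) (.leaf [4] 4 0 false))) (.node (.node (.leaf [1, 0, 1] 12 0 false) (.leaf [4, 3, 4, 3, 4] 10 0 false)) (.node (.leaf [2] 2 0 false) (.leaf [1, 4, 1] 7 1 false)))) (.node (.node (.node (.leaf [2, 0, 2] 13 0 false) (.leaf [3] 3 0 false)) (.node (.leaf [1] 1 0 false) (.leaf [2, 1, 2, 1, 2, 1, 2, 1, 0] 11 1 false))) (.node (.node (.leaf [1] 1 0 false) (.leaf [3] 3 0 false)) (.leaf [3, 2, 3, 2, 3] 8 0 false)))) (.node (.node (.node (.node (.leaf [3, 0, 3] 14 0 false) (.leaf [2] 2 0 false)) (.node (.leaf [2, 1, 2, 1, 0, 4, 2, 1, 2] 11 5 false) (.leaf [3, 4, 3, 4, 3] 10 1 false))) (.node (.node (.leaf [0] 0 0 false) (.leaf [1, 3, 1] 6 1 false)) (.node (.leaf [4, 2, 4] 9 0 false) (.leaf [0, 1, 2, 1, 2, 1, 2, 1, 2] 11 8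 true)))) (.node (.node (.node (.leaf [4, 0, 4] 15 0 false) (.leaf [2, 3, 2, 3, 2] 8 1 false)) (.node (.leaf [1] 1 0 false) (.leaf [2, 4, 2] 9 1 false))) (.node (.node (.leaf [3, 1, 3] 6 0 false) (.leaf [3] 3 0 false)) (.leaf [1, 2, 1, 2, 1, 0, 4, 2, 1] 11 4 false)))))
def hl : List ℕ := [0, 1, 2, 4]
def B : List (List ℕ) := [[0, 0], [1, 1], [2, 2], [3, 3], [4, 4], [1, 2, 1, 2, 1, 2, 1, 2, 1, 2, 1, 2, 1, 2, 1, 2], [1, 3, 1, 3], [1, 4, 1, 4], [2, 3, 2, 3, 2, 3], [2, 4, 2, 4], [3, 4, 3, 4, 3, 4], [0, 4, 2, 1, 2, 1, 2, 1, 2, 1], [0, 1, 0, 1], [0, 2, 0, 2], [0, 3, 0, 3], [0, 4, 0, 4]]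
def subs : List (List ℕ) := [[0], [1], [2], [4]]
def ex : List (List ℕ) := []
def inv (x : ℕ) : ℕ := [0, 1, 2, 3, 4].getD x 0
noncomputable def rS : ℕ → ℕ := rowOf tS (nat_lit 8) (nat_lit 255) (nat_lit 54) (nat_lit 18014398509481983)
noncomputable def rJ : ℕ → ℕ := rowOf tJ (nat_lit 8) (nat_lit 255) (nat_lit 28) (nat_lit 268435455)
noncomputable def C : TC.Cfg where
  S := look rS (nat_lit 9) (nat_lit 511)
  J := look rJ (nat_lit 4) (nat_lit 15)
  Q := lookQ tQ (nat_lit 8) (nat_lit 1) (nat_lit 1)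
  R := tR.get
  hl := fun x => hl.contains x
  n := (nat_lit 21)
  M := (nat_lit 21)
  top := (nat_lit 294)
  nl := (nat_lit 5)
  need := (nat_lit 5)
  nr := (nat_lit 6)
theorem k0 : TC.chkRange C 0 1 = true := by decide +kernel
theorem rows0 : ∀ c < (0 + 1) * 64, c < C.M → TC.chkRow C c = true :=
  TC.rows_step (TC.rows_zero C) k0
theorem main {G : Type*} [Group G] (g : ℕ → G) (hB : ∀ r ∈ B, ev g r = 1) (H : Subgroup G)
    (hH : ∀ w ∈ subs, ev g w ∈ H) :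
    H.relIndex (Subgroup.closure (g '' {x | x < 5})) ≠ 0 ∧
      H.relIndex (Subgroup.closure (g '' {x | x < 5})) ≤ 21 :=
  TC.index_le C B subs ex inv hl tR.hint rfl (by decide +kernel) (by decide +kernel)
    (TC.rows_done rows0 (by decide +kernel)) g hB H hH
end H0.TCON2
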